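import Mathlib

/-!
# Splitting a map from a finite module to a projective module near a prime

If `φ : M → N` has `M` finite, `N` projective and `κ(p) ⊗ φ` injective, then some element outside
`p` times the identity of `M` factors through `φ`.
-/

namespace Groth.Agent.Jacobian

open TensorProduct Matrix

universe u v w

variable {C : Type u} [CommRing C] {M : Type v} [AddCommGroup M] [Module C M]
  {N : Type w} [AddCommGroup N] [Module C N]

/-- Nakayama near a prime: elements spanning `κ(p) ⊗ M` span `M` after multiplying by some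
element outside `p`. -/
theorem exists_smul_mem_span [Module.Finite C M] (p : Ideal C) [p.IsPrime] {ι : Type*}
    (m : ι → M)
    (hm : Submodule.span p.ResidueField (Set.range fun i => (1 : p.ResidueField) ⊗ₜ[C] m i) = ⊤) :
    ∃ h : C, h ∉ p ∧ ∀ y : M, h • y ∈ Submodule.span C (Set.range m) := by
  set W := Submodule.span C (Set.range m) with hW
  have hsub : Subsingleton (p.ResidueField ⊗[C] (M ⧸ W)) := by
    refine subsingleton_of_forall_eq 0 fun z => ?_
    obtain ⟨y, rfl⟩ := LinearMap.lTensor_surjective _ W.mkQ_surjective z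
    have h0 : (W.mkQ.baseChange p.ResidueField) = 0 := by
      refine LinearMap.ext_on_range hm fun i => ?_
      have : W.mkQ (m i) = 0 := (Submodule.Quotient.mk_eq_zero W).mpr
        (Submodule.subset_span ⟨i, rfl⟩)
      simp only [LinearMap.baseChange_tmul, this, tmul_zero, LinearMap.zero_apply]
    exact LinearMap.congr_fun h0 y
  have hns : (⟨p, inferInstance⟩ : PrimeSpectrum C) ∉ Module.support C (M ⧸ W) := by
    rw [Module.mem_support_iff_nontrivial_residueField_tensorProduct]
    exact not_nontrivial_iff_subsingleton.mpr hsub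
  rw [Module.mem_support_iff_of_finite] at hns
  obtain ⟨h, hh, hp⟩ := SetLike.not_le_iff_exists.mp hns
  refine ⟨h, hp, fun y => ?_⟩
  have := Module.mem_annihilator.mp hh (Submodule.Quotient.mk y)
  rwa [← Submodule.Quotient.mk_smul, Submodule.Quotient.mk_eq_zero] at this

/-- If `κ(p) ⊗ φ` is injective, there are finitely many elements generating `M` near `p` and as
many functionals on `N` whose Jacobian determinant is outside `p`. -/
theorem exists_det_notMem [Module.Finite C M] [Module.Projective C N] (φ : M →ₗ[C] N)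
    (p : Ideal C) [p.IsPrime] (hφ : Function.Injective (φ.lTensor p.ResidueField)) :
    ∃ (n : ℕ) (m : Fin n → M) (ψ : Fin n → (N →ₗ[C] C)),
      (Matrix.of fun j i => ψ j (φ (m i))).det ∉ p ∧
      ∃ h : C, h ∉ p ∧ ∀ y : M, h • y ∈ Submodule.span C (Set.range m) := by
  classical
  -- a basis of `κ ⊗ M` by pure tensors
  let κ := p.ResidueField
  have htop : Submodule.span κ (Set.range fun y : M => (1 : κ) ⊗ₜ[C] y) = ⊤ := by
    rw [eq_top_iff]
    rintro z -
    induction z using TensorProduct.induction_on with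
    | zero => exact zero_mem _
    | tmul a y =>
      have : a ⊗ₜ[C] y = a • ((1 : κ) ⊗ₜ[C] y) := by rw [smul_tmul', smul_eq_mul, mul_one]
      rw [this]
      exact Submodule.smul_mem _ _ (Submodule.subset_span ⟨y, rfl⟩)
    | add a b ha hb => exact add_mem ha hb
  obtain ⟨b, hbs, hbspan, hbli⟩ :=
    exists_linearIndependent κ (Set.range fun y : M => (1 : κ) ⊗ₜ[C] y)
  have : Finite b := hbli.finite
  let n := Nat.card b
  let e : b ≃ Fin n := Finite.equivFin b
  choose m hm using fun i : Fin n => hbs (e.symm i).2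
  have hmspan : Submodule.span κ (Set.range fun i => (1 : κ) ⊗ₜ[C] m i) = ⊤ := by
    rw [← htop, ← hbspan]
    congr 1
    ext z
    constructor
    · rintro ⟨i, rfl⟩
      simp only [hm]
      exact (e.symm i).2
    · intro hz
      exact ⟨e ⟨z, hz⟩, by simp [hm]⟩
  have hmli : LinearIndependent κ fun i => (1 : κ) ⊗ₜ[C] m i := by
    have : (fun i => (1 : κ) ⊗ₜ[C] m i) = ((↑) : b → κ ⊗[C] M) ∘ e.symm := by
      funext i; exact hm i
    rw [this]
    exact hbli.comp _ e.symm.injective
  -- coordinates on `N`
  obtain ⟨s, hs⟩ := Module.projective_def.mp ‹Module.Projective C N›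
  let T : κ ⊗[C] M →ₗ[κ] (N →₀ κ) :=
    (TensorProduct.finsuppScalarRight C κ κ N).toLinearMap ∘ₗ (s ∘ₗ φ).baseChange κ
  have hTinj : Function.Injective T := by
    refine (TensorProduct.finsuppScalarRight C κ κ N).injective.comp ?_
    have hs' : Function.Injective (s.lTensor κ) := by
      refine Function.LeftInverse.injective (g := (Finsupp.linearCombination C id).lTensor κ) ?_
      intro z
      rw [← LinearMap.lTensor_comp_apply]
      have : (Finsupp.linearCombination C (id : N → N)) ∘ₗ s = LinearMap.id := LinearMap.ext hs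
      rw [this, LinearMap.lTensor_id, LinearMap.id_apply]
    have := hs'.comp hφ
    rw [LinearMap.baseChange_eq_ltensor, LinearMap.lTensor_comp]
    exact this
  have hT : ∀ i x, T ((1 : κ) ⊗ₜ[C] m i) x = algebraMap C κ (s (φ (m i)) x) := by
    intro i x
    simp only [T, LinearMap.coe_comp, LinearEquiv.coe_coe, Function.comp_apply,
      LinearMap.baseChange_tmul, TensorProduct.finsuppScalarRight_apply_tmul_apply]
    rw [Algebra.algebraMap_eq_smul_one]
  have hvli : LinearIndependent κ fun i => T ((1 : κ) ⊗ₜ[C] m i) :=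
    hmli.map' T (LinearMap.ker_eq_bot.mpr hTinj)
  -- select `n` coordinates
  let c : N → (Fin n → κ) := fun x i => T ((1 : κ) ⊗ₜ[C] m i) x
  have hc : Submodule.span κ (Set.range c) = ⊤ := by
    by_contra hne
    obtain ⟨a, ha0, hale⟩ := Submodule.exists_le_ker_of_lt_top _ (lt_top_iff_ne_top.mpr hne)
    apply ha0
    have hzero : ∑ i, a (Pi.single i 1) • T ((1 : κ) ⊗ₜ[C] m i) = 0 := by
      ext x
      have hx : a (c x) = 0 := hale (Submodule.subset_span ⟨x, rfl⟩)
      have hcx : c x = ∑ i, c x i • Pi.single i (1 : κ) := by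
        ext j; simp [Finset.sum_apply, Pi.single_apply]
      rw [hcx, map_sum] at hx
      simp only [map_smul, smul_eq_mul] at hx
      simp only [Finsupp.coe_finsetSum, Finsupp.coe_smul, Finset.sum_apply, Pi.smul_apply,
        smul_eq_mul, Finsupp.coe_zero, Pi.zero_apply]
      calc _ = ∑ i, c x i * a (Pi.single i 1) :=
            Finset.sum_congr rfl fun i _ => mul_comm _ _
        _ = 0 := hx
    have := Fintype.linearIndependent_iff.mp hvli (fun i => a (Pi.single i 1)) hzero
    refine LinearMap.pi_ext' fun i => LinearMap.ext_ring ?_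
    simpa using this i
  obtain ⟨b', hbs', hbspan', hbli'⟩ := exists_linearIndependent κ (Set.range c)
  have : Finite b' := hbli'.finite
  have hcard : Nat.card b' = n := by
    have := Fintype.ofFinite b'
    rw [Nat.card_eq_fintype_card]
    let B := Module.Basis.mk hbli' (by rw [Subtype.range_coe_subtype, Set.setOf_mem_eq, hbspan', hc])
    rw [← Module.finrank_eq_card_basis B, Module.finrank_fin_fun]
  let e' : b' ≃ Fin n := (Finite.equivFin b').trans (finCongr hcard)
  choose x hx using fun i : Fin n => hbs' (e'.symm i).2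
  let ψ : Fin n → (N →ₗ[C] C) := fun j => (Finsupp.lapply (x j)).comp s
  refine ⟨n, m, ψ, ?_, exists_smul_mem_span p m hmspan⟩
  intro hmem
  have hrows : LinearIndependent κ fun j => c (x j) := by
    have : (fun j => c (x j)) = ((↑) : b' → (Fin n → κ)) ∘ e'.symm := by
      funext j; exact hx j
    rw [this]
    exact hbli'.comp _ e'.symm.injective
  have hG : ((Matrix.of fun j i => ψ j (φ (m i))).map (algebraMap C κ)) =
      Matrix.of fun j i => c (x j) i := by
    ext j i
    simp [ψ, c, hT]
  have hunit : IsUnit ((Matrix.of fun j i => ψ j (φ (m i))).map (algebraMap C κ)) := by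
    rw [hG, ← Matrix.linearIndependent_rows_iff_isUnit]
    exact hrows
  rw [Matrix.isUnit_iff_isUnit_det, ← RingHom.mapMatrix_apply, ← RingHom.map_det] at hunit
  exact hunit.ne_zero (Ideal.algebraMap_residueField_eq_zero.mpr hmem)

/-- Functionals with invertible Jacobian determinant give a splitting up to a scalar. -/
theorem exists_comp_eq_smul_id (φ : M →ₗ[C] N) {n : ℕ} (m : Fin n → M)
    (ψ : Fin n → (N →ₗ[C] C)) (h : C)
    (hh : ∀ y : M, h • y ∈ Submodule.span C (Set.range m)) :
    ∃ l : N →ₗ[C] M, l ∘ₗ φ = (h * (Matrix.of fun j i => ψ j (φ (m i))).det) • LinearMap.id := by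
  classical
  set G : Matrix (Fin n) (Fin n) C := Matrix.of fun j i => ψ j (φ (m i)) with hG
  let l₀ : N →ₗ[C] M :=
    Fintype.linearCombination C m ∘ₗ G.adjugate.mulVecLin ∘ₗ LinearMap.pi ψ
  have hkey : ∀ i, l₀ (φ (m i)) = G.det • m i := by
    intro i
    have hcol : LinearMap.pi ψ (φ (m i)) = G *ᵥ Pi.single i 1 := by
      ext j
      simp [hG, Matrix.mulVec_single]
    simp only [l₀, LinearMap.coe_comp, Function.comp_apply, Matrix.mulVecLin_apply, hcol,
      Matrix.mulVec_mulVec, Matrix.adjugate_mul, Matrix.smul_mulVec, Matrix.one_mulVec,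
      map_smul, Fintype.linearCombination_apply_single, one_smul]
  have hW : ∀ w ∈ Submodule.span C (Set.range m), l₀ (φ w) = G.det • w := by
    intro w hw
    induction hw using Submodule.span_induction with
    | mem w hw => obtain ⟨i, rfl⟩ := hw; exact hkey i
    | zero => simp
    | add a b _ _ ha hb => simp [ha, hb, smul_add]
    | smul a w _ hw => simp [hw, smul_comm a]
  refine ⟨h • l₀, LinearMap.ext fun y => ?_⟩
  simp only [LinearMap.coe_comp, Function.comp_apply, LinearMap.smul_apply, LinearMap.id_apply]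
  rw [← map_smul, ← map_smul, hW _ (hh y), smul_smul, mul_comm]

/-- The main splitting lemma. -/
theorem exists_comp_eq_smul_id_of_injective [Module.Finite C M] [Module.Projective C N]
    (φ : M →ₗ[C] N) (p : Ideal C) [p.IsPrime]
    (hφ : Function.Injective (φ.lTensor p.ResidueField)) :
    ∃ f : C, f ∉ p ∧ ∃ l : N →ₗ[C] M, l ∘ₗ φ = f • LinearMap.id := by
  obtain ⟨n, m, ψ, hdet, h, hp, hh⟩ := exists_det_notMem φ p hφ
  exact ⟨_, fun hmem => (‹p.IsPrime›.mem_or_mem hmem).elim hp hdet,
    exists_comp_eq_smul_id φ m ψ h hh⟩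

/-- If `κ(p) ⊗ φ` is injective at every maximal ideal then `φ` splits. -/
theorem exists_comp_eq_id [Module.Finite C M] [Module.Projective C N]
    (φ : M →ₗ[C] N)
    (hφ : ∀ (p : Ideal C) [p.IsMaximal], Function.Injective (φ.lTensor p.ResidueField)) :
    ∃ l : N →ₗ[C] M, l ∘ₗ φ = LinearMap.id := by
  let I : Ideal C :=
    { carrier := {f | ∃ l : N →ₗ[C] M, l ∘ₗ φ = f • LinearMap.id}
      zero_mem' := ⟨0, by simp⟩
      add_mem' := fun {a b} ⟨la, ha⟩ ⟨lb, hb⟩ => ⟨la + lb, by
        rw [LinearMap.add_comp, ha, hb, add_smul]⟩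
      smul_mem' := fun a b ⟨lb, hb⟩ => ⟨a • lb, by
        rw [LinearMap.smul_comp, hb, smul_smul, smul_eq_mul]⟩ }
  have htop : I = ⊤ := by
    by_contra hne
    obtain ⟨P, hP, hle⟩ := Ideal.exists_le_maximal I hne
    obtain ⟨f, hf, hl⟩ := exists_comp_eq_smul_id_of_injective φ P (hφ P)
    exact hf (hle hl)
  obtain ⟨l, hl⟩ : (1 : C) ∈ I := htop ▸ Submodule.mem_top
  exact ⟨l, by simpa using hl⟩

end Groth.Agent.Jacobian
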