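import Mathlib
import Groth.Agent.Jacobian.Split

/-!
# The Jacobian criterion of formal smoothness

`C = B/J` with `B` formally smooth over `A`. For a localization `T` of `C`, `T` is formally smooth
over `A` iff `T ⊗ (J/J²) → T ⊗ (C ⊗ Ω_{B/A})` splits; if `J/J²` is finite this is tested by
injectivity over residue fields.
-/

namespace Groth.Agent.Jacobian

open TensorProduct KaehlerDifferential

universe u

/-- A split map stays injective over any algebra over the ring where it splits. -/
theorem lTensor_injective_of_retraction {C : Type*} [CommRing C] {M N : Type*} [AddCommGroup M]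
    [Module C M] [AddCommGroup N] [Module C N] (φ : M →ₗ[C] N) (T K : Type*) [CommRing T]
    [Algebra C T] [CommRing K] [Algebra C K] [Algebra T K] [IsScalarTower C T K]
    (l : T ⊗[C] N →ₗ[T] T ⊗[C] M) (hl : l ∘ₗ φ.baseChange T = LinearMap.id) :
    Function.Injective (φ.lTensor K) := by
  let r : K ⊗[C] N →ₗ[K] K ⊗[C] M :=
    (AlgebraTensorModule.cancelBaseChange C T K K M).toLinearMap ∘ₗ l.baseChange K ∘ₗ
      (AlgebraTensorModule.cancelBaseChange C T K K N).symm.toLinearMap
  refine Function.LeftInverse.injective (g := r) fun z => ?_
  induction z using TensorProduct.induction_on with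
  | zero => simp
  | tmul a y =>
    have hy : l ((1 : T) ⊗ₜ[C] φ y) = (1 : T) ⊗ₜ[C] y := by
      rw [← LinearMap.baseChange_tmul]
      exact LinearMap.congr_fun hl _
    simp [r, hy]
  | add a b ha hb => rw [map_add, map_add, ha, hb]

/-- A splitting up to a unit of `T` gives a splitting over `T`. -/
theorem exists_retraction_of_isUnit {C : Type*} [CommRing C] {M N : Type*} [AddCommGroup M]
    [Module C M] [AddCommGroup N] [Module C N] (φ : M →ₗ[C] N) (T : Type*) [CommRing T]
    [Algebra C T] {f : C} (l : N →ₗ[C] M) (hl : l ∘ₗ φ = f • LinearMap.id)
    (hf : IsUnit (algebraMap C T f)) :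
    ∃ l' : T ⊗[C] N →ₗ[T] T ⊗[C] M, l' ∘ₗ φ.baseChange T = LinearMap.id := by
  obtain ⟨g, hg⟩ := hf.exists_left_inv
  refine ⟨g • l.baseChange T, ?_⟩
  rw [LinearMap.smul_comp, ← LinearMap.baseChange_comp, hl, LinearMap.baseChange_smul,
    LinearMap.baseChange_id, ← IsScalarTower.algebraMap_smul T f, smul_smul, hg, one_smul]

/-- For a surjective `B → C` and `C`-modules, tensor products over `B` and `C` agree. -/
theorem lTensor_injective_iff_of_surjective {B C : Type*} [CommRing B] [CommRing C] [Algebra B C]
    (hsurj : Function.Surjective (algebraMap B C)) {M N : Type*} [AddCommGroup M] [Module C M]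
    [Module B M] [IsScalarTower B C M] [AddCommGroup N] [Module C N] [Module B N]
    [IsScalarTower B C N] (φ : M →ₗ[C] N) (K : Type*) [AddCommGroup K] [Module C K] [Module B K]
    [IsScalarTower B C K] :
    Function.Injective ((φ.restrictScalars B).lTensor K) ↔ Function.Injective (φ.lTensor K) := by
  have hMc : TensorProduct.CompatibleSMul B C K M := ⟨fun c k m => by
    obtain ⟨b, rfl⟩ := hsurj c
    rw [IsScalarTower.algebraMap_smul, IsScalarTower.algebraMap_smul, smul_tmul]⟩
  have hNc : TensorProduct.CompatibleSMul B C K N := ⟨fun c k m => by
    obtain ⟨b, rfl⟩ := hsurj c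
    rw [IsScalarTower.algebraMap_smul, IsScalarTower.algebraMap_smul, smul_tmul]⟩
  let eM := TensorProduct.equivOfCompatibleSMul B C C K M
  let eN := TensorProduct.equivOfCompatibleSMul B C C K N
  have : ⇑eN ∘ φ.lTensor K = ((φ.restrictScalars B).lTensor K) ∘ ⇑eM := by
    funext z
    induction z using TensorProduct.induction_on with
    | zero => simp
    | tmul a y => simp [eM, eN, TensorProduct.equivOfCompatibleSMul]
    | add a b ha hb =>
      simp only [Function.comp_apply] at ha hb
      simp only [Function.comp_apply, map_add, ha, hb]
  rw [← Function.Injective.of_comp_iff' _ eM.bijective, ← this,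
    Function.Injective.of_comp_iff eN.injective]

variable {A C : Type u} [CommRing A] [CommRing C] [Algebra A C]
  (P : Algebra.Extension.{u} A C) [Algebra.FormallySmooth A P.Ring]

/-- A localization `T` of `C` is formally smooth over `A` iff the cotangent complex of a formally
smooth presentation of `C` splits over `T`. -/
theorem formallySmooth_localization_iff (S : Submonoid C) (T : Type u) [CommRing T] [Algebra C T]
    [Algebra A T] [IsScalarTower A C T] [IsLocalization S T] :
    Algebra.FormallySmooth A T ↔
      ∃ l : T ⊗[C] P.CotangentSpace →ₗ[T] T ⊗[C] P.Cotangent,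
        l ∘ₗ P.cotangentComplex.baseChange T = LinearMap.id := by
  have : Module.Flat C T := IsLocalization.flat T S
  have : Algebra.FormallyEtale C T := Algebra.FormallyEtale.of_isLocalization S
  set f := P.cotangentComplex.baseChange T with hf
  set g := P.toKaehler.baseChange T with hg
  have hex : Function.Exact f g :=
    lTensor_exact T P.exact_cotangentComplex_toKaehler P.toKaehler_surjective
  have hgs : Function.Surjective g := LinearMap.lTensor_surjective T P.toKaehler_surjective
  have hk : Function.Exact ((LinearMap.ker P.cotangentComplex).subtype.lTensor T)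
      (P.cotangentComplex.lTensor T) :=
    Module.Flat.lTensor_exact T (LinearMap.exact_subtype_ker_map _)
  have hki : Function.Injective ((LinearMap.ker P.cotangentComplex).subtype.lTensor T) :=
    Module.Flat.lTensor_preserves_injective_linearMap _ Subtype.val_injective
  have hH : Function.Injective f ↔ Subsingleton (Algebra.H1Cotangent A T) := by
    let e : T ⊗[C] LinearMap.ker P.cotangentComplex ≃ₗ[T] Algebra.H1Cotangent A T :=
      (P.equivH1CotangentOfFormallySmooth.baseChange C T _ _).trans
        (Algebra.tensorH1CotangentOfIsLocalization A T S)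
    rw [← e.toEquiv.subsingleton_congr]
    constructor
    · intro hinj
      refine subsingleton_of_forall_eq 0 fun z => hki ?_
      rw [map_zero]
      apply hinj
      rw [map_zero]
      exact hk.apply_apply_eq_zero z
    · intro hs
      refine (injective_iff_map_eq_zero f).mpr fun z hz => ?_
      obtain ⟨w, rfl⟩ := (hk z).mp hz
      rw [Subsingleton.elim w 0, map_zero]
  have hΩ : Module.Projective T Ω[T⁄A] ↔ ∃ s, g ∘ₗ s = LinearMap.id := by
    rw [← Module.Projective.iff_split_of_projective g hgs]
    let e := KaehlerDifferential.tensorKaehlerEquivOfFormallyEtale A C T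
    exact ⟨fun _ => .of_equiv e.symm, fun _ => .of_equiv e⟩
  rw [Algebra.formallySmooth_iff, and_comm, ← hH, hΩ]
  have h := (hex.split_tfae').out 0 1
  rw [and_iff_right hgs] at h
  exact h

/-- If `κ(p) ⊗` the cotangent complex is injective, the algebra is formally smooth near `p`. -/
theorem exists_notMem_formallySmooth [Module.Finite C P.Cotangent] (p : Ideal C) [p.IsPrime]
    (h : Function.Injective (P.cotangentComplex.lTensor p.ResidueField)) :
    ∃ f : C, f ∉ p ∧ Algebra.FormallySmooth A (Localization.Away f) ∧
      Algebra.FormallySmooth A (Localization.AtPrime p) := by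
  obtain ⟨f, hfp, l, hl⟩ := exists_comp_eq_smul_id_of_injective P.cotangentComplex p h
  refine ⟨f, hfp, (formallySmooth_localization_iff P (Submonoid.powers f) _).mpr
    (exists_retraction_of_isUnit _ _ l hl (IsLocalization.Away.algebraMap_isUnit f)),
    (formallySmooth_localization_iff P p.primeCompl _).mpr
    (exists_retraction_of_isUnit _ _ l hl (IsLocalization.map_units _ (⟨f, hfp⟩ : p.primeCompl)))⟩

/-- If the local ring at `p` is formally smooth, `κ(p) ⊗` the cotangent complex is injective. -/
theorem injective_of_formallySmooth_atPrime (p : Ideal C) [p.IsPrime]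
    (h : Algebra.FormallySmooth A (Localization.AtPrime p)) :
    Function.Injective (P.cotangentComplex.lTensor p.ResidueField) := by
  obtain ⟨l, hl⟩ := (formallySmooth_localization_iff P p.primeCompl _).mp h
  exact lTensor_injective_of_retraction _ (Localization.AtPrime p) p.ResidueField l hl

/-- If `C_f` is formally smooth, so is `C_p` for every prime `p` missing `f`. -/
theorem formallySmooth_atPrime_of_away (p : Ideal C) [p.IsPrime] {f : C} (hf : f ∉ p)
    (h : Algebra.FormallySmooth A (Localization.Away f)) :
    Algebra.FormallySmooth A (Localization.AtPrime p) := by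
  let φ : Localization.Away f →+* Localization.AtPrime p :=
    IsLocalization.Away.lift f
      (IsLocalization.map_units (Localization.AtPrime p) (⟨f, hf⟩ : p.primeCompl))
  algebraize [φ]
  have : IsScalarTower C (Localization.Away f) (Localization.AtPrime p) :=
    .of_algebraMap_eq' (IsLocalization.Away.lift_comp f _).symm
  have : IsScalarTower A (Localization.Away f) (Localization.AtPrime p) :=
    .to₁₃₄ A C _ _
  have : IsLocalization (Submonoid.map (algebraMap C (Localization.Away f)) p.primeCompl)
      (Localization.AtPrime p) :=
    IsLocalization.isLocalization_of_submonoid_le _ _ (Submonoid.powers f) p.primeCompl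
      (Submonoid.powers_le.mpr hf)
  have : Algebra.FormallySmooth (Localization.Away f) (Localization.AtPrime p) :=
    Algebra.FormallySmooth.of_isLocalization
      (Submonoid.map (algebraMap C (Localization.Away f)) p.primeCompl)
  exact Algebra.FormallySmooth.comp A (Localization.Away f) _

/-- If `κ(p) ⊗` the cotangent complex is injective at all maximal ideals, the algebra is
formally smooth. -/
theorem formallySmooth_of_forall_maximal [Module.Finite C P.Cotangent]
    (h : ∀ (p : Ideal C) [p.IsMaximal],
      Function.Injective (P.cotangentComplex.lTensor p.ResidueField)) :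
    Algebra.FormallySmooth A C :=
  P.formallySmooth_iff_split_injection.mpr (exists_comp_eq_id P.cotangentComplex h)

section Surjective

variable {B : Type u} [CommRing B] [Algebra A B] [Algebra B C] [IsScalarTower A B C]
  (hsurj : Function.Surjective (algebraMap B C))

/-- The extension given by a surjection `B → C`. -/
noncomputable abbrev extensionOfSurj : Algebra.Extension.{u} A C :=
  { Ring := B, σ := Function.surjInv hsurj, algebraMap_σ := Function.surjInv_eq hsurj }

/-- The extension's cotangent module is the conormal module of the kernel. -/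
noncomputable def cotangentEquivKer :
    (extensionOfSurj (A := A) hsurj).Cotangent ≃ₗ[B]
      (RingHom.ker (algebraMap B C)).Cotangent :=
  (extensionOfSurj (A := A) hsurj).cotangentEquivCotangentKer

include hsurj in
theorem finite_cotangent [Module.Finite B (RingHom.ker (algebraMap B C)).Cotangent] :
    Module.Finite C (extensionOfSurj (A := A) hsurj).Cotangent := by
  have : Module.Finite (extensionOfSurj (A := A) hsurj).Ring
      (extensionOfSurj (A := A) hsurj).Cotangent :=
    Module.Finite.equiv (cotangentEquivKer (A := A) hsurj).symm
  exact Module.Finite.of_restrictScalars_finite (extensionOfSurj (A := A) hsurj).Ring _ _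

theorem injective_lTensor_iff (K : Type*) [AddCommGroup K] [Module C K] [Module B K]
    [IsScalarTower B C K] :
    Function.Injective ((kerCotangentToTensor A B C).lTensor K) ↔
      Function.Injective ((extensionOfSurj (A := A) hsurj).cotangentComplex.lTensor K) := by
  set Q := extensionOfSurj (A := A) hsurj
  rw [← lTensor_injective_iff_of_surjective hsurj]
  let e : Q.Cotangent ≃ₗ[B] (RingHom.ker (algebraMap B C)).Cotangent :=
    cotangentEquivKer (A := A) hsurj
  have : (Q.cotangentComplex.restrictScalars B) =
      (kerCotangentToTensor A B C) ∘ₗ e.toLinearMap := by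
    ext x
    obtain ⟨x, rfl⟩ := Algebra.Extension.Cotangent.mk_surjective x
    rfl
  rw [this, LinearMap.lTensor_comp]
  exact (Function.Injective.of_comp_iff' _ (LinearEquiv.lTensor K e).bijective).symm

include hsurj in
/-- The Jacobian criterion: formal smoothness at `p`, injectivity over `κ(p)`, and formal
smoothness near `p` agree. -/
theorem tfae [Algebra.FormallySmooth A B]
    [Module.Finite B (RingHom.ker (algebraMap B C)).Cotangent] (p : Ideal C) [p.IsPrime] :
    [Algebra.FormallySmooth A (Localization.AtPrime p),
     Function.Injective ((kerCotangentToTensor A B C).lTensor p.ResidueField),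
     ∃ f : C, f ∉ p ∧ Algebra.FormallySmooth A (Localization.Away f)].TFAE := by
  have : Algebra.FormallySmooth A (extensionOfSurj (A := A) hsurj).Ring :=
    ‹Algebra.FormallySmooth A B›
  have := finite_cotangent (A := A) hsurj
  rw [injective_lTensor_iff (A := A) hsurj]
  tfae_have 1 → 2 := injective_of_formallySmooth_atPrime _ p
  tfae_have 2 → 3 := fun h => by
    obtain ⟨f, hf, h1, -⟩ := exists_notMem_formallySmooth _ p h
    exact ⟨f, hf, h1⟩
  tfae_have 3 → 1 := fun ⟨f, hf, h⟩ =>
    formallySmooth_atPrime_of_away p hf h
  tfae_finish

include hsurj in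
theorem formallySmooth_iff_forall_maximal [Algebra.FormallySmooth A B]
    [Module.Finite B (RingHom.ker (algebraMap B C)).Cotangent] :
    Algebra.FormallySmooth A C ↔
      ∀ (m : Ideal C) [m.IsMaximal], Algebra.FormallySmooth A (Localization.AtPrime m) := by
  refine ⟨fun _ m _ => ?_, fun h => ?_⟩
  · have : Algebra.FormallySmooth C (Localization.AtPrime m) :=
      Algebra.FormallySmooth.of_isLocalization m.primeCompl
    exact Algebra.FormallySmooth.comp A C _
  · have : Algebra.FormallySmooth A (extensionOfSurj (A := A) hsurj).Ring :=
      ‹Algebra.FormallySmooth A B›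
    have := finite_cotangent (A := A) hsurj
    exact formallySmooth_of_forall_maximal (extensionOfSurj (A := A) hsurj)
      fun p _ => injective_of_formallySmooth_atPrime _ p (h p)

include hsurj in
theorem isOpen_formallySmooth [Algebra.FormallySmooth A B]
    [Module.Finite B (RingHom.ker (algebraMap B C)).Cotangent] :
    IsOpen {p : PrimeSpectrum C | Algebra.FormallySmooth A (Localization.AtPrime p.asIdeal)} := by
  rw [isOpen_iff_forall_mem_open]
  intro p hp
  obtain ⟨f, hf, hfs⟩ := ((tfae (A := A) hsurj p.asIdeal).out 0 2).mp hp
  exact ⟨PrimeSpectrum.basicOpen f,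
    fun q hq => formallySmooth_atPrime_of_away q.asIdeal hq hfs,
    (PrimeSpectrum.basicOpen f).isOpen, hf⟩

end Surjective

end Groth.Agent.Jacobian
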