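import Mathlib
import Groth.Agent.Jacobian.Criterion

/-!
# The Jacobian criterion in terms of derivations
-/

namespace Groth.Agent.Jacobian

open TensorProduct KaehlerDifferential

universe u

variable {A B C : Type u} [CommRing A] [CommRing B] [CommRing C] [Algebra A B] [Algebra B C]
  [Algebra A C] [IsScalarTower A B C] [Algebra.FormallySmooth A B]

/-- `C = B/J` is formally smooth over `A` at `p` iff `J` is generated near `p` by elements with
a Jacobian determinant, for suitable derivations, invertible at `p`. -/
theorem formallySmooth_atPrime_iff_exists_det (hsurj : Function.Surjective (algebraMap B C))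
    (J : Ideal B) (hJ : RingHom.ker (algebraMap B C) = J) (hfg : J.FG)
    (p : Ideal C) [p.IsPrime] (q : Ideal B) [q.IsPrime] (hq : p.comap (algebraMap B C) = q) :
    Algebra.FormallySmooth A (Localization.AtPrime p) ↔
      ∃ (m : ℕ) (f : Fin m → B) (D : Fin m → Derivation A B B),
        (∀ i, f i ∈ J) ∧
        J.map (algebraMap B (Localization.AtPrime q)) =
          Ideal.span (Set.range fun i => algebraMap B (Localization.AtPrime q) (f i)) ∧
        Matrix.det (Matrix.of fun i j => D j (f i)) ∉ q := by
  subst hJ
  set Q := extensionOfSurj (A := A) hsurj with hQ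
  have : Algebra.FormallySmooth A Q.Ring := ‹Algebra.FormallySmooth A B›
  have : Module.Finite B (RingHom.ker (algebraMap B C)) := Module.Finite.of_fg hfg
  have : Module.Finite B (RingHom.ker (algebraMap B C)).Cotangent :=
    Module.Finite.of_surjective _ (Ideal.toCotangent_surjective _)
  have := finite_cotangent (A := A) hsurj
  set J := RingHom.ker (algebraMap B C) with hJdef
  have hJq : J ≤ q := fun x hx => by
    rw [← hq, Ideal.mem_comap, RingHom.mem_ker.mp hx]
    exact zero_mem _
  constructor
  · intro h
    obtain ⟨n, m, ψ, hdet, h', hp, hh⟩ := exists_det_notMem Q.cotangentComplex p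
      (injective_of_formallySmooth_atPrime Q p h)
    choose f hf using fun i => Algebra.Extension.Cotangent.mk_surjective (m i)
    -- lift the functionals to derivations
    let ι : Ω[B⁄A] →ₗ[B] Q.CotangentSpace := TensorProduct.mk B C Ω[B⁄A] 1
    choose ψ' hψ' using fun j => Module.projective_lifting_property (Algebra.linearMap B C)
      ((ψ j).restrictScalars B ∘ₗ ι) hsurj
    let D : Fin n → Derivation A B B := fun j => (ψ' j).compDer (KaehlerDifferential.D A B)
    refine ⟨n, fun i => (f i : B), D, fun i => (f i).2, ?_, ?_⟩
    · apply le_antisymm
      · obtain ⟨t, ht⟩ := hsurj h'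
        have htq : t ∉ q := by rw [← hq, Ideal.mem_comap, ht]; exact hp
        refine Submodule.le_of_le_smul_of_le_jacobson_bot (hfg.map _)
          (I := J.map (algebraMap B (Localization.AtPrime q))) ?_ ?_
        · rw [IsLocalRing.jacobson_eq_maximalIdeal _ bot_ne_top,
            ← Localization.AtPrime.map_eq_maximalIdeal]
          exact Ideal.map_mono hJq
        · rw [Ideal.map_le_iff_le_comap]
          intro x hx
          rw [Ideal.mem_comap]
          obtain ⟨c, hc⟩ := (Submodule.mem_span_range_iff_exists_fun C).mp
            (hh (Algebra.Extension.Cotangent.mk (P := Q) ⟨x, hx⟩))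
          choose b hb using fun i => hsurj (c i)
          have key : Algebra.Extension.Cotangent.mk (P := Q)
              ((t • (⟨x, hx⟩ : Q.ker)) - ∑ i, b i • f i) = 0 := by
            rw [map_sub, map_sum, map_smul, sub_eq_zero]
            simp only [map_smul, hf]
            rw [← IsScalarTower.algebraMap_smul C t, ht, ← hc]
            refine Finset.sum_congr rfl fun i _ => ?_
            rw [← hb]
            exact IsScalarTower.algebraMap_smul C (b i) (m i)
          rw [Algebra.Extension.Cotangent.mk_eq_zero_iff] at key
          have key' : t * x - ∑ i, b i * (f i : B) ∈ J ^ 2 := by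
            simpa using key
          have hu : IsUnit (algebraMap B (Localization.AtPrime q) t) :=
            IsLocalization.map_units (Localization.AtPrime q) (⟨t, htq⟩ : q.primeCompl)
          refine (Submodule.smul_mem_iff_of_isUnit _ hu).mp ?_
          have hsplit : algebraMap B (Localization.AtPrime q) t •
              algebraMap B (Localization.AtPrime q) x =
              algebraMap B _ (∑ i, b i * (f i : B)) +
                algebraMap B _ (t * x - ∑ i, b i * (f i : B)) := by
            rw [← map_add, smul_eq_mul, ← map_mul]; ring_nf
          rw [hsplit]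
          refine Submodule.add_mem_sup ?_ ?_
          · rw [map_sum]
            refine Ideal.sum_mem _ fun i _ => ?_
            rw [map_mul]
            exact Ideal.mul_mem_left _ _ (Ideal.subset_span ⟨i, rfl⟩)
          · rw [smul_eq_mul, ← Ideal.map_mul, ← sq]
            exact Ideal.mem_map_of_mem _ key'
      · rw [Ideal.span_le]
        rintro _ ⟨i, rfl⟩
        exact Ideal.mem_map_of_mem _ (f i).2
    · rw [← hq, Ideal.mem_comap, RingHom.map_det]
      have heq : (algebraMap B C).mapMatrix (Matrix.of fun i j => D j (f i : B)) =
          (Matrix.of fun j i => ψ j (Q.cotangentComplex (m i))).transpose := by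
        ext i j
        simp only [RingHom.mapMatrix_apply, Matrix.map_apply, Matrix.of_apply,
          Matrix.transpose_apply, ← hf i]
        exact LinearMap.congr_fun (hψ' j) (KaehlerDifferential.D A B (f i : B))
      rw [heq, Matrix.det_transpose]
      exact hdet
  · rintro ⟨n, f, D, hfJ, hgen, hdet⟩
    let m : Fin n → Q.Cotangent :=
      fun i => Algebra.Extension.Cotangent.mk (P := Q) ⟨f i, hfJ i⟩
    let ψ : Fin n → (Q.CotangentSpace →ₗ[C] C) := fun j =>
      LinearMap.liftBaseChange C (Algebra.linearMap B C ∘ₗ (D j).liftKaehlerDifferential)
    have hmspan : Submodule.span p.ResidueField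
        (Set.range fun i => (1 : p.ResidueField) ⊗ₜ[C] m i) = ⊤ := by
      rw [eq_top_iff]
      rintro z -
      induction z using TensorProduct.induction_on with
      | zero => exact zero_mem _
      | add a b ha hb => exact add_mem ha hb
      | tmul a y =>
        obtain ⟨⟨x, hx⟩, rfl⟩ := Algebra.Extension.Cotangent.mk_surjective y
        have hxmem : algebraMap B (Localization.AtPrime q) x ∈
            (Ideal.span (Set.range f)).map (algebraMap B (Localization.AtPrime q)) := by
          rw [Ideal.map_span, ← Set.range_comp]
          exact hgen ▸ Ideal.mem_map_of_mem _ hx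
        obtain ⟨s, hs, hsx⟩ := (IsLocalization.algebraMap_mem_map_algebraMap_iff q.primeCompl
          _ _ _).mp hxmem
        obtain ⟨b, hb⟩ := (Submodule.mem_span_range_iff_exists_fun B).mp hsx
        have hsy : algebraMap B C s • Algebra.Extension.Cotangent.mk (P := Q) ⟨x, hx⟩ =
            ∑ i, algebraMap B C (b i) • m i := by
          have he : (s • (⟨x, hx⟩ : Q.ker)) = ∑ i, b i • (⟨f i, hfJ i⟩ : Q.ker) := by
            apply Subtype.ext
            simpa using hb.symm
          have := congrArg (Algebra.Extension.Cotangent.mk (P := Q)) he
          rw [map_smul, map_sum] at this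
          simp only [map_smul] at this
          rw [IsScalarTower.algebraMap_smul]
          refine this.trans (Finset.sum_congr rfl fun i _ => ?_)
          rw [IsScalarTower.algebraMap_smul]
        have hs0 : algebraMap C p.ResidueField (algebraMap B C s) ≠ 0 := by
          rw [Ne, Ideal.algebraMap_residueField_eq_zero]
          exact fun h => hs (hq ▸ h)
        have hy : a ⊗ₜ[C] (Algebra.Extension.Cotangent.mk (P := Q) ⟨x, hx⟩) =
            (a * (algebraMap C p.ResidueField (algebraMap B C s))⁻¹) •
              ((1 : p.ResidueField) ⊗ₜ[C]
                (algebraMap B C s • Algebra.Extension.Cotangent.mk (P := Q) ⟨x, hx⟩)) := by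
          rw [← smul_tmul, Algebra.smul_def, mul_one, smul_tmul', smul_eq_mul,
            mul_assoc, inv_mul_cancel₀ hs0, mul_one]
        rw [hy, hsy, tmul_sum]
        refine Submodule.smul_mem _ _ (Submodule.sum_mem _ fun i _ => ?_)
        rw [← smul_tmul, Algebra.smul_def, mul_one]
        have : algebraMap C p.ResidueField (algebraMap B C (b i)) ⊗ₜ[C] m i =
            algebraMap C p.ResidueField (algebraMap B C (b i)) •
              ((1 : p.ResidueField) ⊗ₜ[C] m i) := by
          rw [smul_tmul', smul_eq_mul, mul_one]
        rw [this]
        exact Submodule.smul_mem _ _ (Submodule.subset_span ⟨i, rfl⟩)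
    obtain ⟨h, hp, hh⟩ := exists_smul_mem_span p m hmspan
    obtain ⟨l, hl⟩ := exists_comp_eq_smul_id Q.cotangentComplex m ψ h hh
    refine (formallySmooth_localization_iff Q p.primeCompl _).mpr
      (exists_retraction_of_isUnit _ _ l hl ?_)
    refine IsLocalization.map_units (Localization.AtPrime p)
      (⟨_, fun hmem => (‹p.IsPrime›.mem_or_mem hmem).elim hp ?_⟩ : p.primeCompl)
    have heq : (Matrix.of fun j i => ψ j (Q.cotangentComplex (m i))) =
        ((algebraMap B C).mapMatrix (Matrix.of fun i j => D j (f i))).transpose := by
      ext j i
      simp [ψ, m]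
      exact congrArg (algebraMap B C) (Derivation.liftKaehlerDifferential_comp_D (D j) (f i))
    rw [heq, Matrix.det_transpose, ← RingHom.map_det, ← Ideal.mem_comap, hq]
    exact hdet

end Groth.Agent.Jacobian
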