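import Mathlib
import Groth.Agent.Jacobian.Split
import Groth.Agent.Jacobian.Criterion

/-! Left invertibility of linear maps into projective modules. -/

namespace Groth.Agent.Jacobian

open TensorProduct

universe u

variable {A : Type u} [CommRing A] {M N : Type u} [AddCommGroup M] [Module A M] [AddCommGroup N]
  [Module A N]

/-- A splitting up to an element of `S` gives a left inverse after localizing at `S`. -/
theorem exists_localized_retraction (u : M →ₗ[A] N) (S : Submonoid A) (l : N →ₗ[A] M) {f : A}
    (hf : f ∈ S) (hl : l ∘ₗ u = f • LinearMap.id) :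
    ∃ w : LocalizedModule S N →ₗ[A] LocalizedModule S M,
      w ∘ₗ LocalizedModule.map S u = LinearMap.id := by
  obtain ⟨ψ, hψ⟩ := IsLocalizedModule.map_units (LocalizedModule.mkLinearMap S M) ⟨f, hf⟩
  refine ⟨(↑ψ⁻¹ : Module.End A (LocalizedModule S M)) ∘ₗ (LocalizedModule.map S l).restrictScalars A, ?_⟩
  refine LinearMap.ext fun z => ?_
  induction z using LocalizedModule.induction_on with
  | h m s =>
    have h1 : LocalizedModule.map S l (LocalizedModule.map S u (LocalizedModule.mk m s)) =
        (ψ : Module.End A (LocalizedModule S M)) (LocalizedModule.mk m s) := by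
      rw [hψ, LocalizedModule.map_mk, LocalizedModule.map_mk, Module.algebraMap_end_apply,
        LocalizedModule.smul'_mk, ← LinearMap.comp_apply, hl, LinearMap.smul_apply,
        LinearMap.id_apply]
    change (↑ψ⁻¹ : Module.End A (LocalizedModule S M))
      (LocalizedModule.map S l (LocalizedModule.map S u (LocalizedModule.mk m s))) = _
    rw [h1, ← Module.End.mul_apply, Units.inv_mul]
    rfl

/-- A left inverse after localizing at `S` gives injectivity over algebras where `S` is invertible. -/
theorem lTensor_injective_of_localized_retraction (u : M →ₗ[A] N) (S : Submonoid A)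
    (w : LocalizedModule S N →ₗ[A] LocalizedModule S M)
    (hw : ∀ z, w (LocalizedModule.map S u z) = z) (K : Type u) [CommRing K] [Algebra A K]
    (hK : ∀ s : S, IsUnit (algebraMap A K s)) : Function.Injective (u.lTensor K) := by
  have hE : ∀ s : S, IsUnit (algebraMap A (Module.End A (K ⊗[A] M)) s) := by
    intro s
    obtain ⟨r, hr⟩ := (hK s).exists_left_inv
    have hr' : ∀ z : K ⊗[A] M, r • ((s : A) • z) = z := fun z => by
      rw [← IsScalarTower.algebraMap_smul K (s : A) z, smul_smul, hr, one_smul]
    rw [Module.End.isUnit_iff]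
    refine ⟨fun a b hab => ?_, fun z => ⟨r • z, ?_⟩⟩
    · simp only [Module.algebraMap_end_apply] at hab
      rw [← hr' a, hab, hr']
    · rw [Module.algebraMap_end_apply, smul_comm, hr']
  let Θ : LocalizedModule S M →ₗ[A] K ⊗[A] M :=
    LocalizedModule.lift S (TensorProduct.mk A K M 1) hE
  have hΘ : ∀ y, Θ (LocalizedModule.mkLinearMap S M y) = (1 : K) ⊗ₜ[A] y := fun y =>
    LinearMap.congr_fun (LocalizedModule.lift_comp S _ hE) y
  let r : K ⊗[A] N →ₗ[K] K ⊗[A] M :=
    (Θ ∘ₗ w ∘ₗ LocalizedModule.mkLinearMap S N).liftBaseChange K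
  refine Function.LeftInverse.injective (g := r) fun z => ?_
  induction z using TensorProduct.induction_on with
  | zero => simp
  | tmul a y =>
    have h1 : LocalizedModule.map S u (LocalizedModule.mkLinearMap S M y) =
        LocalizedModule.mkLinearMap S N (u y) := by
      simp [LocalizedModule.map_mk]
    simp only [r, LinearMap.lTensor_tmul, LinearMap.liftBaseChange_tmul, LinearMap.coe_comp,
      Function.comp_apply]
    rw [← h1, hw, hΘ, smul_tmul', smul_eq_mul, mul_one]
  | add a b ha hb => rw [map_add, map_add, ha, hb]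

theorem isUnit_algebraMap_residueField {p : Ideal A} [p.IsPrime] {f : A} (hf : f ∉ p) :
    IsUnit (algebraMap A p.ResidueField f) :=
  IsUnit.mk0 _ (fun h => hf (Ideal.algebraMap_residueField_eq_zero.mp h))

/-- Left invertibility is tested at maximal ideals. -/
theorem exists_retraction_of_forall_localized [Module.Finite A M] [Module.Projective A N]
    (u : M →ₗ[A] N)
    (h : ∀ (m : Ideal A) [m.IsMaximal],
        ∃ w : LocalizedModule m.primeCompl N →ₗ[A] LocalizedModule m.primeCompl M,
          w ∘ₗ LocalizedModule.map m.primeCompl u = LinearMap.id) :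
    ∃ w : N →ₗ[A] M, w ∘ₗ u = LinearMap.id := by
  refine exists_comp_eq_id u fun m _ => ?_
  obtain ⟨w, hw⟩ := h m
  exact lTensor_injective_of_localized_retraction u _ w (LinearMap.congr_fun hw) m.ResidueField
    fun s => isUnit_algebraMap_residueField s.2

/-- Left invertibility descends along faithfully flat algebras. -/
theorem exists_retraction_of_faithfullyFlat [Module.Finite A M] [Module.Projective A N]
    (u : M →ₗ[A] N) (A' : Type u) [CommRing A'] [Algebra A A'] [Module.FaithfullyFlat A A']
    (w : A' ⊗[A] N →ₗ[A'] A' ⊗[A] M) (hw : w ∘ₗ u.baseChange A' = LinearMap.id) :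
    ∃ w : N →ₗ[A] M, w ∘ₗ u = LinearMap.id := by
  refine exists_comp_eq_id u fun m _ => ?_
  let κ := m.ResidueField
  let K := A' ⊗[A] κ
  letI : Algebra κ K := Algebra.TensorProduct.rightAlgebra
  haveI : Nontrivial K := Module.FaithfullyFlat.lTensor_nontrivial A A' κ
  have hK : Function.Injective (u.lTensor K) := lTensor_injective_of_retraction u A' K w hw
  obtain ⟨ρ, hρ⟩ := LinearMap.exists_leftInverse_of_injective (Algebra.linearMap κ K)
    (LinearMap.ker_eq_bot.mpr (algebraMap κ K).injective)
  haveI : IsScalarTower A κ K := IsScalarTower.of_algebraMap_eq fun a => by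
    change algebraMap A A' a ⊗ₜ[A] (1 : κ) = (1 : A') ⊗ₜ[A] algebraMap A κ a
    rw [Algebra.algebraMap_eq_smul_one, Algebra.algebraMap_eq_smul_one, smul_tmul]
  let ι : κ →ₗ[A] K := (Algebra.linearMap κ K).restrictScalars A
  have hι : Function.Injective (ι.rTensor M) := by
    refine Function.LeftInverse.injective (g := (ρ.restrictScalars A).rTensor M) fun z => ?_
    have h1 : (ρ.restrictScalars A) ∘ₗ ι = LinearMap.id := LinearMap.ext fun x => LinearMap.congr_fun hρ x
    rw [← LinearMap.rTensor_comp_apply, h1, LinearMap.rTensor_id, LinearMap.id_apply]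
  have h2 : Function.Injective ((u.lTensor K) ∘ (ι.rTensor M)) := hK.comp hι
  have h3 : ⇑(u.lTensor K) ∘ ⇑(ι.rTensor M) = ⇑(ι.rTensor N) ∘ ⇑(u.lTensor κ) := by
    funext z
    simp only [Function.comp_apply, LinearMap.lTensor_def, LinearMap.rTensor_def,
      ← LinearMap.comp_apply, ← TensorProduct.map_comp, LinearMap.id_comp, LinearMap.comp_id]
  rw [h3] at h2
  exact Function.Injective.of_comp h2

/-- Left invertibility modulo an ideal lifts. -/
theorem exists_retraction_of_mod [Module.Projective A N] (u : M →ₗ[A] N) (J : Ideal A)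
    (hJ : IsNilpotent J ∨ (J ≤ (⊥ : Ideal A).jacobson ∧ Module.Finite A M))
    (v : N →ₗ[A] M ⧸ (J • ⊤ : Submodule A M)) (hv : v ∘ₗ u = (J • ⊤ : Submodule A M).mkQ) :
    ∃ w : N →ₗ[A] M, w ∘ₗ u = LinearMap.id := by
  obtain ⟨g, hg⟩ := Module.projective_lifting_property _ v (Submodule.mkQ_surjective _)
  have hgu : ∀ x, g (u x) - x ∈ (J • ⊤ : Submodule A M) := fun x => by
    rw [← Submodule.Quotient.eq]
    exact (LinearMap.congr_fun hg (u x)).trans (LinearMap.congr_fun hv x)
  let e : M →ₗ[A] M := g ∘ₗ u
  suffices Function.Bijective e by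
    let ee := LinearEquiv.ofBijective e this
    exact ⟨ee.symm.toLinearMap ∘ₗ g, LinearMap.ext fun x => ee.symm_apply_apply x⟩
  rcases hJ with hJ | ⟨hJ, hM⟩
  · let d : Module.End A M := 1 - e
    have hd : ∀ x, d x ∈ J • (⊤ : Submodule A M) := fun x => by
      have := Submodule.neg_mem _ (hgu x)
      rwa [neg_sub] at this
    have hpow : ∀ (j : ℕ) x, (d ^ j) x ∈ J ^ j • (⊤ : Submodule A M) := by
      intro j
      induction j with
      | zero => intro x; simp
      | succ j ih =>
        intro x
        rw [pow_succ d, Module.End.mul_apply]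
        have h1 : (d ^ j) (d x) ∈ Submodule.map (d ^ j) (J • (⊤ : Submodule A M)) :=
          Submodule.mem_map_of_mem (hd x)
        rw [Submodule.map_smul''] at h1
        have h2 : Submodule.map (d ^ j) ⊤ ≤ J ^ j • (⊤ : Submodule A M) := by
          rintro _ ⟨y, -, rfl⟩
          exact ih y
        have h3 := Submodule.smul_mono (le_refl J) h2 h1
        rwa [← Submodule.mul_smul, ← pow_succ'] at h3
    obtain ⟨k, hk⟩ := hJ
    have hnil : IsNilpotent d := ⟨k, LinearMap.ext fun x => by
      have := hpow k x
      rw [hk, Submodule.zero_eq_bot, Submodule.bot_smul, Submodule.mem_bot] at this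
      exact this⟩
    have h := hnil.isUnit_one_sub
    rw [sub_sub_cancel, Module.End.isUnit_iff] at h
    exact h
  · have hsurj : Function.Surjective e := by
      rw [← LinearMap.range_eq_top, eq_top_iff]
      refine Submodule.le_of_le_smul_of_le_jacobson_bot hM.fg_top hJ fun x _ => ?_
      refine Submodule.mem_sup.mpr ⟨e x, LinearMap.mem_range_self e x, x - e x, ?_, add_sub_cancel _ _⟩
      have := Submodule.neg_mem _ (hgu x)
      rwa [neg_sub] at this
    exact ⟨OrzechProperty.injective_of_surjective_endomorphism e hsurj, hsurj⟩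

/-- Elements whose images in `κ ⊗ N` are independent: the map they define to `N` splits. -/
theorem exists_retraction_of_linearIndependent [IsLocalRing A] [Module.Projective A N] {m : ℕ}
    (y : Fin m → N)
    (hy : LinearIndependent (IsLocalRing.ResidueField A)
      (fun i => (1 : IsLocalRing.ResidueField A) ⊗ₜ[A] y i)) :
    ∃ w : N →ₗ[A] (Fin m → A), w ∘ₗ Fintype.linearCombination A y = LinearMap.id := by
  set φ : (Fin m → A) →ₗ[A] N := Fintype.linearCombination A y
  refine exists_comp_eq_id φ fun P _ => ?_
  obtain rfl := IsLocalRing.eq_maximalIdeal (I := P) inferInstance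
  let e : IsLocalRing.ResidueField A ≃ₐ[A] (IsLocalRing.maximalIdeal A).ResidueField :=
    AlgEquiv.ofBijective (IsScalarTower.toAlgHom A (A ⧸ IsLocalRing.maximalIdeal A) _)
      (Ideal.bijective_algebraMap_quotient_residueField _)
  have hinj : Function.Injective (φ.lTensor (IsLocalRing.ResidueField A)) := by
    refine (injective_iff_map_eq_zero _).mpr fun z hz => ?_
    obtain ⟨c, rfl⟩ : ∃ c : Fin m → IsLocalRing.ResidueField A,
        ∑ i, c i ⊗ₜ[A] Pi.single i (1 : A) = z := by
      clear hz
      induction z using TensorProduct.induction_on with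
      | zero => exact ⟨0, by simp⟩
      | tmul a v =>
        refine ⟨fun i => v i • a, ?_⟩
        conv_rhs => rw [← Finset.univ_sum_single v, tmul_sum]
        refine Finset.sum_congr rfl fun i _ => ?_
        rw [smul_tmul, ← Pi.single_smul', smul_eq_mul, mul_one]
      | add a b ha hb =>
        obtain ⟨c, rfl⟩ := ha
        obtain ⟨d, rfl⟩ := hb
        exact ⟨c + d, by simp [add_tmul, Finset.sum_add_distrib]⟩
    have hc : ∑ i, c i • ((1 : IsLocalRing.ResidueField A) ⊗ₜ[A] y i) = 0 := by
      rw [← hz, map_sum]
      refine Finset.sum_congr rfl fun i _ => ?_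
      rw [LinearMap.lTensor_tmul, smul_tmul', smul_eq_mul, mul_one]
      simp [φ, Fintype.linearCombination_apply_single]
    have := Fintype.linearIndependent_iff.mp hy c hc
    simp [this]
  have hcomm : ⇑(φ.lTensor (IsLocalRing.maximalIdeal A).ResidueField) ∘ ⇑(e.toLinearEquiv.rTensor _) =
      ⇑(e.toLinearEquiv.rTensor _) ∘ ⇑(φ.lTensor (IsLocalRing.ResidueField A)) := by
    funext z
    induction z using TensorProduct.induction_on with
    | zero => simp
    | tmul a y => rfl
    | add a b ha hb =>
      simp only [Function.comp_apply] at ha hb ⊢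
      simp only [map_add, ha, hb]
  rw [← Function.Injective.of_comp_iff' _ (e.toLinearEquiv.rTensor _).bijective, hcomm]
  exact (e.toLinearEquiv.rTensor _).injective.comp hinj

end Groth.Agent.Jacobian
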